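import Groth.Agent.LeadPic.PnPic
import Groth.Agent.LeadBC.SeesawH1
import Groth.Agent.H22Alg.PB.Vanish
import Groth.Agent.H27Weil.Geometry
import Groth.Agent.H18HTop.SpecLiftDVR
import Groth.Agent.H10Coh.PushEdge
import Groth.Agent.H28Pinch.DirectImageTrivial
import Groth.Agent.H25Theta.Cls

/-!
# Invertible modules on projective space over a connected scheme
-/

set_option autoImplicit false
set_option linter.style.haveILetI false

noncomputable section

universe u

open CategoryTheory CategoryTheory.Limits AlgebraicGeometry Opposite TopologicalSpace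

namespace Groth.Agent.LeadPic

/-- Invertible modules on the spectrum of a field are trivial. -/
theorem nonempty_iso_field (K : Type u) [Field K] {M : (Spec (CommRingCat.of K)).Modules}
    (hM : PicF.IsInvertible M) : Nonempty (M ≅ Coh.structureModule (Spec (CommRingCat.of K))) := by
  obtain ⟨V, e, hx, he⟩ := H11Ample.exists_gen hM (IsLocalRing.closedPoint K : Spec (CommRingCat.of K))
  have hV : V = ⊤ := top_le_iff.1 fun y _ => by
    have : y = (IsLocalRing.closedPoint K : Spec (CommRingCat.of K)) := Subsingleton.elim (α := PrimeSpectrum K) _ _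
    exact this ▸ hx
  subst hV
  haveI := H11Tilde.isIso_homOfGlobal M e fun W => he.bijective (le_top : W ≤ ⊤)
  exact ⟨(asIso (H11Tilde.homOfGlobal M e)).symm⟩

end Groth.Agent.LeadPic

namespace Groth.Agent.LeadPic.PnRel

open Groth.Agent.H11Tilde Groth.Agent.H25Theta CohB1

attribute [local instance 10000] H10Coh.hasSheafifyAb H10Coh.hasWeakSheafifyAb H10Coh.hasExtAb H10Coh.enoughInjAb
attribute [local instance] H10Coh.enoughInjMod

variable (n : ℕ)

theorem isIntegral_projSpace (R : Type u) [CommRing R] [IsDomain R] : IsIntegral (ProjSpace n R) where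
  nonempty := ⟨(Pn.η n R : Proj (polyGrading n R))⟩
  component_integral U hU := by
    obtain ⟨⟨x, hx⟩⟩ := hU
    have hη : Pn.η n R ∈ U := genericPt_mem _ _ _ _ (x := x) hx
    exact (evF_injective _ _ _ _ hη).isDomain (evF _ _ _ _ hη)

/-- The classes of the twists. -/
def OC (R : Type u) [CommRing R] : Multiplicative ℤ →* (Cls (ProjSpace n R))ˣ where
  toFun d := unitCls (H22Alg.RegSheaf.isInvertible_twistProjSpace n R (Multiplicative.toAdd d))
  map_one' := Units.ext (cls_eq.2 (nonempty_twist_zero_iso (polyGrading n R)))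
  map_mul' a b := Units.ext (cls_eq.2 ((nonempty_twist_tensor_iso (polyGrading n R) (H22Alg.RegSheaf.cover n R)
    _ _ _ (toAdd_mul a b)).map Iso.symm))

/-- The classes of the relative twists. -/
def OS (S : Scheme.{u}) : Multiplicative ℤ →* (Cls (ProjSpaceOver n S))ˣ :=
  (pullU (pullback.fst (ProjSpace.toSpec n (ULift.{u} ℤ)) (specULiftZIsTerminal.from S))).comp
    (OC n (ULift.{u} ℤ))

theorem val_OS (S : Scheme.{u}) (d : ℤ) :
    ((OS n S (Multiplicative.ofAdd d) : (Cls (ProjSpaceOver n S))ˣ) : Cls (ProjSpaceOver n S)) =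
      cls (Twist.twistOver n S d) := rfl

/-- Twists of different degrees are different, in positive dimension. -/
theorem OC_injective {n : ℕ} (hn : n ≠ 0) (R : Type u) [CommRing R] [IsDomain R] :
    Function.Injective (OC n R) := by
  have key : ∀ d : ℤ, d < 0 → OC n R (Multiplicative.ofAdd d) ≠ 1 := fun d hd h => by
    obtain ⟨e⟩ : Nonempty (Twist.twistProjSpace n R d ≅ Coh.structureModule (ProjSpace n R)) :=
      cls_eq.1 (congrArg Units.val h)
    haveI := isIntegral_projSpace n R
    haveI : Subsingleton Γ(Twist.twistProjSpace n R d, ⊤) := H10Coh.Pn.subsingleton_sections_of_neg hn hd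
    have h2 : (1 : Γ(ProjSpace n R, ⊤)) = 0 := by
      obtain ⟨a, ha⟩ := (ConcreteCategory.bijective_of_isIso (e.hom.app ⊤)).2
        (show Γ(Coh.structureModule (ProjSpace n R), ⊤) from (1 : Γ(ProjSpace n R, ⊤)))
      rw [Subsingleton.elim a 0, map_zero] at ha
      exact ha.symm
    exact one_ne_zero h2
  refine (injective_iff_map_eq_one _).2 fun a ha => ?_
  by_contra h0
  have hne : Multiplicative.toAdd a ≠ 0 := h0
  rcases lt_or_gt_of_ne hne with h | h
  · exact key _ h ha
  · refine key (-Multiplicative.toAdd a) (by omega) ?_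
    rw [ofAdd_neg, ofAdd_toAdd, map_inv, ha, inv_one]

/-- Every invertible class over a factorial domain is a twist. -/
theorem OC_surjective (R : Type u) [CommRing R] [IsDomain R] [UniqueFactorizationMonoid R]
    {L : (ProjSpace n R).Modules} (hL : PicF.IsInvertible L) : ∃ d, OC n R d = unitCls hL := by
  obtain ⟨d, ⟨e⟩⟩ := Pn.exists_iso_twist n R hL
  exact ⟨Multiplicative.ofAdd d, Units.ext (cls_eq.2 ⟨e.symm⟩)⟩

section point

variable {S : Scheme.{u}} {K : Type u} [CommRing K] (φ : Spec (CommRingCat.of K) ⟶ S)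

/-- A map from projective space over a ring respecting the twists. -/
theorem exists_map :
    ∃ m : ProjSpace n K ⟶ ProjSpaceOver n S,
      IsPullback m (ProjSpace.toSpec n K) (ProjSpaceOver.toBase n S) φ ∧
      ∀ d, pullU m (OS n S d) = OC n K d := by
  obtain ⟨a, ha, ha₁, ⟨e⟩⟩ := H22Alg.PB.exists_affine_iso n K
  haveI := ha
  let T := Spec (CommRingCat.of K)
  let pm : ProjSpaceOver n T ⟶ ProjSpaceOver n S :=
    pullback.lift (pullback.fst _ _) (pullback.snd _ _ ≫ φ)
      (pullback.condition.trans (specULiftZIsTerminal.hom_ext _ _))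
  have hp₁ : pm ≫ pullback.fst _ _ = pullback.fst _ _ := pullback.lift_fst _ _ _
  have sq : IsPullback pm (ProjSpaceOver.toBase n T) (ProjSpaceOver.toBase n S) φ := by
    refine IsPullback.of_right ?_ (pullback.lift_snd _ _ _) (IsPullback.of_hasPullback
      (ProjSpace.toSpec n (ULift.{u} ℤ)) (specULiftZIsTerminal.from S))
    rw [hp₁, show φ ≫ specULiftZIsTerminal.from S = specULiftZIsTerminal.from T from
      specULiftZIsTerminal.hom_ext _ _]
    exact IsPullback.of_hasPullback _ _
  have sq0 : IsPullback a (ProjSpace.toSpec n K) (ProjSpaceOver.toBase n T) (𝟙 (Spec (CommRingCat.of K))) :=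
    IsPullback.of_horiz_isIso ⟨by rw [Category.comp_id]; exact ha₁⟩
  refine ⟨a ≫ pm, Category.id_comp φ ▸ sq0.paste_horiz sq, fun d => ?_⟩
  refine congrArg (fun h : Multiplicative ℤ →* (Cls (ProjSpace n K))ˣ => h d)
    (show (pullU (a ≫ pm)).comp (OS n S) = OC n K from MonoidHom.ext_mint ?_)
  show pullU (a ≫ pm) (OS n S (Multiplicative.ofAdd 1)) = _
  refine Eq.trans ?_ (Units.ext (cls_eq.2 ⟨e⟩) :
    pullU a (OS n T (Multiplicative.ofAdd 1)) = OC n K (Multiplicative.ofAdd 1))
  exact (pullU_pullU _ _ _).trans ((congrArg (fun g => pullU g (OC n (ULift.{u} ℤ) (Multiplicative.ofAdd 1)))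
    ((Category.assoc a pm _).trans (congrArg (a ≫ ·) hp₁))).trans (pullU_pullU _ _ _).symm)

end point

section base

variable (S : Scheme.{u})

theorem flat_toBase : Flat (ProjSpaceOver.toBase n S) := H22Alg.PnVan.flat_pr n S

theorem locallyOfFinitePresentation_toBase : LocallyOfFinitePresentation (ProjSpaceOver.toBase n S) := by
  haveI := H27Weil.isProper_toSpec n (ULift.{u} ℤ)
  haveI : IsNoetherianRing (ULift.{u} ℤ) := isNoetherianRing_of_ringEquiv ℤ ULift.ringEquiv.symm
  haveI : LocallyOfFinitePresentation (ProjSpace.toSpec n (ULift.{u} ℤ)) :=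
    H18HTop.locallyOfFinitePresentation_of_noetherian _
  exact MorphismProperty.pullback_snd _ _ inferInstance

theorem exists_section : ∃ σ : S ⟶ ProjSpaceOver n S, σ ≫ ProjSpaceOver.toBase n S = 𝟙 S := by
  obtain ⟨s, -⟩ := H11Proj.ProjSpace.exists_section n (ULift.{u} ℤ)
  exact ⟨pullback.lift (specULiftZIsTerminal.from S ≫ s) (𝟙 S) (specULiftZIsTerminal.hom_ext _ _),
    pullback.lift_snd _ _ _⟩

/-- What is needed of a fibre. -/
theorem fibre_props (s : S) :
    IsIso ((ProjSpaceOver.toBase n S).fiberToSpecResidueField s).appTop ∧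
    IsIntegral ((ProjSpaceOver.toBase n S).fiber s) ∧
    Subsingleton (Coh.HH ((ProjSpaceOver.toBase n S).fiber s) (Coh.structureModule _) 1) ∧
    ∃ e : ProjSpace n (S.residueField s) ≅ (ProjSpaceOver.toBase n S).fiber s,
      ∀ d, pullU (e.hom ≫ (ProjSpaceOver.toBase n S).fiberι s) (OS n S d) = OC n (S.residueField s) d := by
  obtain ⟨m, hm, hd⟩ := exists_map n (K := S.residueField s) (S.fromSpecResidueField s)
  let f := ProjSpaceOver.toBase n S
  let e : ProjSpace n (S.residueField s) ≅ f.fiber s := hm.isoPullback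
  have he₁ : e.hom ≫ f.fiberι s = m := hm.isoPullback_hom_fst
  have he₂ : e.hom ≫ f.fiberToSpecResidueField s = ProjSpace.toSpec n (S.residueField s) :=
    hm.isoPullback_hom_snd
  refine ⟨?_, ?_, ?_, e, by rw [he₁]; exact hd⟩
  · haveI : IsIso (ProjSpace.toSpec n (S.residueField s)).appTop := H10Coh.Pn.isIso_toS_appTop n _
    rw [← e.inv_hom_id_assoc (f.fiberToSpecResidueField s), he₂, Scheme.Hom.comp_appTop]
    haveI : IsIso e.inv.appTop := inferInstanceAs (IsIso (e.inv.app ⊤))
    exact IsIso.comp_isIso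
  · haveI := isIntegral_projSpace n (S.residueField s)
    haveI : Nonempty (f.fiber s) := ⟨e.hom (Pn.η n (S.residueField s))⟩
    exact isIntegral_of_isOpenImmersion e.inv
  · haveI : Subsingleton (Coh.HH (ProjSpace n (S.residueField s)) (Coh.structureModule _) 1) :=
      H10Coh.Pn.subsingleton_HH_structureModule n (S.residueField s) 1 one_pos
    have hf : ∀ U : (ProjSpace n (S.residueField s)).Opens, Function.Bijective (e.inv.app U) := fun U =>
      ConcreteCategory.bijective_of_isIso _
    haveI := H28Pinch.isIso_unit_of_isFinLocFree e.inv hf (Coh.structureModule (ProjSpace n (S.residueField s)))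
      (H28Pinch.isFinLocFree_of_isInvertible (H22Alg.PnDeg0.isInvertible_structure _))
    let ψ : (Scheme.Modules.pushforward e.inv).obj (Coh.structureModule (f.fiber s)) ≅
        Coh.structureModule (ProjSpace n (S.residueField s)) :=
      (Scheme.Modules.pushforward e.inv).mapIso (pO e.inv).symm ≪≫
        (asIso ((Scheme.Modules.pullbackPushforwardAdjunction e.inv).unit.app _)).symm
    haveI := H8Props.FinLocFree.isQCoh_of_isFinLocFree (Coh.structureModule (f.fiber s))
      (H28Pinch.isFinLocFree_of_isInvertible (H22Alg.PnDeg0.isInvertible_structure _))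
    have hb := H10Coh.bijective_pushEdge e.inv (Coh.structureModule (f.fiber s))
      (H10Coh.isAcyclic_push_of_isAffineHom e.inv _) 1
    haveI := H10Coh.subsingleton_HH_of_iso ψ.symm 1 inferInstance
    exact hb.2.subsingleton

end base

/-- Invertible modules on projective space over a connected scheme. -/
theorem exists_decomp (S : Scheme.{u}) [ConnectedSpace S] (N : (ProjSpaceOver n S).Modules)
    (hN : PicF.IsInvertible N) :
    ∃ (L : S.Modules) (d : ℤ), PicF.IsInvertible L ∧
      Nonempty (N ≅ tensorMod ((Scheme.Modules.pullback (ProjSpaceOver.toBase n S)).obj L) (Twist.twistOver n S d)) := by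
  let f := ProjSpaceOver.toBase n S
  haveI : IsProper f := H27Weil.isProper_toBase n S
  haveI : Flat f := flat_toBase n S
  haveI : LocallyOfFinitePresentation f := locallyOfFinitePresentation_toBase n S
  obtain ⟨s₀⟩ := (inferInstance : Nonempty S)
  obtain ⟨-, -, -, e, he⟩ := fibre_props n S s₀
  have hN₀ : PicF.IsInvertible ((Scheme.Modules.pullback (e.hom ≫ f.fiberι s₀)).obj N) :=
    H11Ample.isInvertible_of_gen fun x => by
      obtain ⟨V, t, hx, ht⟩ := H11Ample.exists_gen hN ((e.hom ≫ f.fiberι s₀) x)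
      exact ⟨_, _, hx, H11Tilde.IsGen.pullSect _ ht⟩
  obtain ⟨d, hd⟩ := OC_surjective n (S.residueField s₀) hN₀
  let N' := tensorMod N (Twist.twistOver n S (-Multiplicative.toAdd d))
  have hN' : PicF.IsInvertible N' := H11Ample.isInvertible_tensor hN (H22Alg.RegSheaf.isInvertible_twistOver _)
  have hcls : (unitCls hN' : (Cls (ProjSpaceOver n S))ˣ) = unitCls hN * (OS n S d)⁻¹ := by
    rw [← map_inv]
    exact Units.ext rfl
  have htriv : Nonempty (CohIII.fiberMod f N' s₀ ≅ Coh.structureModule (f.fiber s₀)) := by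
    refine cls_eq.1 ?_
    have h1 : pullU (e.hom ≫ f.fiberι s₀) (unitCls hN') = 1 := by
      rw [hcls, map_mul, map_inv, he, hd]
      exact mul_inv_eq_one.2 (Units.ext rfl)
    have h2 := congrArg (pullU e.inv) h1
    rw [pullU_pullU, map_one, e.inv_hom_id_assoc] at h2
    exact congrArg Units.val h2
  obtain ⟨hinv, hiso⟩ := LeadBC.Seesaw.invertible_and_counit_of_connected f
    (fun s => (fibre_props n S s).2.2.1) N' (fun s => (fibre_props n S s).2.1) hN'
    (fun s => (fibre_props n S s).1) htriv
  haveI := hiso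
  let L := (Scheme.Modules.pushforward f).obj N'
  refine ⟨L, Multiplicative.toAdd d, hinv, cls_eq.1 ?_⟩
  have h3 : pull f (cls L) = (unitCls hN' : (Cls (ProjSpaceOver n S))ˣ) :=
    cls_eq.2 ⟨asIso ((Scheme.Modules.pullbackPushforwardAdjunction f).counit.app N')⟩
  show cls N = pull f (cls L) * (OS n S d : (Cls (ProjSpaceOver n S))ˣ)
  rw [h3, hcls, ← Units.val_mul, inv_mul_cancel_right]
  rfl

/-- Uniqueness of the decomposition. -/
theorem decomp_unique {n : ℕ} (hn : n ≠ 0) (S : Scheme.{u}) [Nonempty S] (L L' : S.Modules) (d d' : ℤ)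
    (hL : PicF.IsInvertible L) (hL' : PicF.IsInvertible L')
    (h : Nonempty (tensorMod ((Scheme.Modules.pullback (ProjSpaceOver.toBase n S)).obj L) (Twist.twistOver n S d) ≅
      tensorMod ((Scheme.Modules.pullback (ProjSpaceOver.toBase n S)).obj L') (Twist.twistOver n S d'))) :
    d = d' ∧ Nonempty (L ≅ L') := by
  let f := ProjSpaceOver.toBase n S
  have h' : pullU f (unitCls hL) * OS n S (Multiplicative.ofAdd d) =
      pullU f (unitCls hL') * OS n S (Multiplicative.ofAdd d') := Units.ext (cls_eq.2 h)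
  obtain ⟨s⟩ := ‹Nonempty S›
  obtain ⟨m, hm, hmd⟩ := exists_map n (K := S.residueField s) (S.fromSpecResidueField s)
  have hone : ∀ {M : S.Modules} (hM : PicF.IsInvertible M), pullU m (pullU f (unitCls hM)) = 1 := fun {M} hM => by
    obtain ⟨z, hz⟩ : ∃ z, pullU (S.fromSpecResidueField s) (unitCls hM) = z := ⟨_, rfl⟩
    rw [pullU_pullU, hm.w, ← pullU_pullU]
    refine (congrArg _ (Units.ext (cls_eq.2 ?_) : _ = (1 : (Cls _)ˣ))).trans (map_one _)
    exact LeadPic.nonempty_iso_field _
      (H11Ample.isInvertible_of_gen fun x => by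
        obtain ⟨V, t, hx, ht⟩ := H11Ample.exists_gen hM (S.fromSpecResidueField s x)
        exact ⟨_, _, hx, H11Tilde.IsGen.pullSect _ ht⟩)
  have hd : d = d' := by
    have h2 := congrArg (pullU m) h'
    rw [map_mul, map_mul, hone, hone, one_mul, one_mul, hmd, hmd] at h2
    exact Multiplicative.ofAdd.injective (OC_injective hn (S.residueField s) h2)
  subst hd
  refine ⟨rfl, cls_eq.1 ?_⟩
  obtain ⟨σ, hσ⟩ := exists_section n S
  have h3 := congrArg (pullU σ) (mul_right_cancel h')
  rw [pullU_pullU, pullU_pullU, hσ, pullU_id, pullU_id] at h3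
  exact congrArg Units.val h3

end Groth.Agent.LeadPic.PnRel
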