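import Groth.Agent.H11Tilde.GammaStar.Ratio
import Mathlib.RingTheory.Localization.FractionRing

/-!
# Functions and twisted sections on `Proj` of a graded domain, evaluated in the fraction field
-/

set_option autoImplicit false
set_option linter.style.haveILetI false

noncomputable section

universe u

open CategoryTheory AlgebraicGeometry TopologicalSpace Opposite

namespace Groth.Agent.LeadPic

open GrMod Groth.Agent.H11Tilde

variable {A σA : Type u} [CommRing A] [IsDomain A] [SetLike σA A] [AddSubgroupClass σA A] (𝒜 : ℕ → σA) [GradedRing 𝒜]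

omit [IsDomain A] in
theorem ne_zero_of_notMem {x : ProjectiveSpectrum 𝒜} {a : A} (ha : a ∉ x.asHomogeneousIdeal) : a ≠ 0 :=
  fun h => ha (h ▸ x.asHomogeneousIdeal.toIdeal.zero_mem)

/-- The inclusion of a local ring into the fraction field. -/
def fgen (x : ProjectiveSpectrum 𝒜) : GrTwist.Loc 𝒜 x →+* FractionRing A :=
  IsLocalization.lift (M := x.asHomogeneousIdeal.toIdeal.primeCompl) (g := algebraMap A (FractionRing A))
    fun s => isUnit_iff_ne_zero.2 ((map_ne_zero_iff _ (IsFractionRing.injective A (FractionRing A))).2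
      (ne_zero_of_notMem 𝒜 s.2))

theorem fgen_mk (x : ProjectiveSpectrum 𝒜) (a : A) (s : x.asHomogeneousIdeal.toIdeal.primeCompl) :
    fgen 𝒜 x (Localization.mk a s) = algebraMap A (FractionRing A) a / algebraMap A (FractionRing A) s.1 := by
  rw [fgen, Localization.mk_eq_mk', IsLocalization.lift_mk'_spec, mul_div_cancel₀]
  exact (map_ne_zero_iff _ (IsFractionRing.injective A (FractionRing A))).2 (ne_zero_of_notMem 𝒜 s.2)

theorem fgen_injective (x : ProjectiveSpectrum 𝒜) : Function.Injective (fgen 𝒜 x) :=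
  (IsLocalization.lift_injective_iff _).2 fun a b => by
    rw [(IsFractionRing.injective A (FractionRing A)).eq_iff]
    exact (IsLocalization.injective (M := x.asHomogeneousIdeal.toIdeal.primeCompl) (GrTwist.Loc 𝒜 x) fun s hs =>
      mem_nonZeroDivisors_of_ne_zero (ne_zero_of_notMem 𝒜 (x := x) hs)).eq_iff

/-- The generic point. -/
def genericPt {f : A} {d : ℕ} (hd : 0 < d) (hf : f ∈ 𝒜 d) (hf0 : f ≠ 0) : ProjectiveSpectrum 𝒜 where
  asHomogeneousIdeal := ⊥
  isPrime := by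
    rw [HomogeneousIdeal.toIdeal_bot]
    exact Ideal.isPrime_bot
  not_irrelevant_le h := hf0 (by
    have h1 : f ∈ HomogeneousIdeal.irrelevant 𝒜 := HomogeneousIdeal.mem_irrelevant_of_mem _ hd hf
    exact h h1)

variable {f : A} {d : ℕ} (hd : 0 < d) (hf : f ∈ 𝒜 d) (hf0 : f ≠ 0)

theorem genericPt_mem {U : (Proj 𝒜).Opens} {x : Proj 𝒜} (hx : x ∈ U) : genericPt 𝒜 hd hf hf0 ∈ U := by
  have h : x ∈ closure {(genericPt 𝒜 hd hf hf0 : Proj 𝒜)} :=
    (ProjectiveSpectrum.le_iff_mem_closure 𝒜 (genericPt 𝒜 hd hf hf0) x).1 (fun a ha => by rw [show a = 0 from ha]; exact Ideal.zero_mem _)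
  obtain ⟨_, h1, rfl⟩ := mem_closure_iff.1 h U U.isOpen hx
  exact h1

/-- The value of a function in the fraction field, at any point of its domain. -/
def evF {U : (Proj 𝒜).Opens} (hU : genericPt 𝒜 hd hf hf0 ∈ U) : Γ(Proj 𝒜, U) →+* FractionRing A where
  toFun r := fgen 𝒜 _ (fval 𝒜 r ⟨_, hU⟩)
  map_one' := by rw [fval_one, map_one]
  map_mul' r s := by rw [fval_mul, map_mul]
  map_zero' := by
    rw [show fval 𝒜 (0 : Γ(Proj 𝒜, U)) ⟨_, hU⟩ = 0 from HomogeneousLocalization.val_zero, map_zero]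
  map_add' r s := by rw [fval_add, map_add]

theorem fgen_fval {U : (Proj 𝒜).Opens} (hU : genericPt 𝒜 hd hf hf0 ∈ U) (r : Γ(Proj 𝒜, U)) (x : U) :
    fgen 𝒜 x.1 (fval 𝒜 r x) = evF 𝒜 hd hf hf0 hU r := by
  obtain ⟨V, hxV, iV, i, a, s, hs, h⟩ := (show GrTwist.O (𝒜 := 𝒜) (op U) from r).2 x
  have key : ∀ y : V, fgen 𝒜 y.1 (fval 𝒜 r (iV y)) =
      algebraMap A (FractionRing A) a.1 / algebraMap A (FractionRing A) s.1 := fun y => by
    rw [show fval 𝒜 r (iV y) = (HomogeneousLocalization.mk ⟨i, a, s, hs y⟩ :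
        HomogeneousLocalization.AtPrime 𝒜 y.1.asHomogeneousIdeal.toIdeal).val from congrArg _ (h y),
      HomogeneousLocalization.val_mk, fgen_mk]
  exact (key ⟨x.1, hxV⟩).trans (key ⟨_, genericPt_mem 𝒜 hd hf hf0 hxV⟩).symm

theorem evF_injective {U : (Proj 𝒜).Opens} (hU : genericPt 𝒜 hd hf hf0 ∈ U) :
    Function.Injective (evF 𝒜 hd hf hf0 hU) := fun r r' h => by
  refine Subtype.ext (funext fun x => HomogeneousLocalization.val_injective _ (fgen_injective 𝒜 x.1 ?_))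
  exact (fgen_fval 𝒜 hd hf hf0 hU r x).trans (h.trans (fgen_fval 𝒜 hd hf hf0 hU r' x).symm)

theorem evF_map {U V : (Proj 𝒜).Opens} (hVU : V ≤ U) (hV : genericPt 𝒜 hd hf hf0 ∈ V) (r : Γ(Proj 𝒜, U)) :
    evF 𝒜 hd hf hf0 hV ((Proj 𝒜).presheaf.map (homOfLE hVU).op r) = evF 𝒜 hd hf hf0 (hVU hV) r := rfl

/-- A function on `D₊(g)` is a fraction. -/
theorem exists_evF_eq {g : A} {e : ℕ} (he : 0 < e) (hg : g ∈ 𝒜 e)
    (hU : genericPt 𝒜 hd hf hf0 ∈ Proj.basicOpen 𝒜 g) (r : Γ(Proj 𝒜, Proj.basicOpen 𝒜 g)) :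
    ∃ (k : ℕ) (a : A), a ∈ 𝒜 (k * e) ∧
      evF 𝒜 hd hf hf0 hU r = algebraMap A (FractionRing A) a / algebraMap A (FractionRing A) g ^ k := by
  obtain ⟨k, a, ha, h⟩ := exists_fval_eq 𝒜 he hg r
  refine ⟨k, a, ha, ?_⟩
  rw [← fgen_fval 𝒜 hd hf hf0 hU r ⟨_, hU⟩, h ⟨_, hU⟩ (pow_notMem 𝒜 hU k), fgen_mk, map_pow]

end Groth.Agent.LeadPic
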