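import Groth.Agent.LeadPic.AffineGcd
import Groth.Agent.LeadPic.ProjGeneric
import Groth.Agent.H11Proj.ProjSpace
import Groth.Agent.H11Tilde.TwistInv
import Mathlib.RingTheory.Polynomial.UniqueFactorization
import Mathlib.RingTheory.UniqueFactorizationDomain.GCDMonoid

/-!
# The Picard group of projective space over a factorial domain
-/

set_option autoImplicit false
set_option linter.style.haveILetI false

noncomputable section

universe u

open CategoryTheory CategoryTheory.Limits AlgebraicGeometry Opposite TopologicalSpace MvPolynomial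

namespace Groth.Agent.LeadPic.Pn

open GrMod Groth.Agent.H11Tilde Groth.Agent.H11Ample CohB1

variable (n : ℕ) (R : Type u) [CommRing R] [IsDomain R]

local notation "AA" => MvPolynomial (Fin (n + 1)) R
local notation "Pg" => polyGrading n R
local notation "KK" => FractionRing (MvPolynomial (Fin (n + 1)) R)

omit [IsDomain R] in
theorem X_mem (i : Fin (n + 1)) : (X i : AA) ∈ Pg 1 := isHomogeneous_X R i

/-- The generic point. -/
def η : ProjectiveSpectrum Pg := genericPt Pg Nat.one_pos (X_mem n R 0) (X_ne_zero 0)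

/-- The standard opens. -/
def D (i : Fin (n + 1)) : (Proj Pg).Opens := Proj.basicOpen Pg (X i)

theorem η_mem_basicOpen {f : AA} (hf : f ≠ 0) : η n R ∈ Proj.basicOpen Pg f := fun h => hf h

theorem η_mem_D (i : Fin (n + 1)) : η n R ∈ D n R i := η_mem_basicOpen n R (X_ne_zero i)

theorem η_mem_inf (i j : Fin (n + 1)) : η n R ∈ D n R i ⊓ D n R j := ⟨η_mem_D n R i, η_mem_D n R j⟩

omit [IsDomain R] in
theorem iSup_D (x : Proj Pg) : ∃ i, x ∈ D n R i :=
  Opens.mem_iSup.1 ((H11Proj.ProjSpace.iSup_basicOpen (n := n) (R := R)).ge trivial)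

omit [IsDomain R] in
theorem isAffineOpen_D (i : Fin (n + 1)) : IsAffineOpen (D n R i) :=
  Proj.isAffineOpen_basicOpen Pg (X i) (X_mem n R i) Nat.one_pos

/-- The coordinate ring of a standard open. -/
def chartEquiv (i : Fin (n + 1)) : MvPolynomial {j : Fin (n + 1) // j ≠ i} R ≃+* Γ(Proj Pg, D n R i) :=
  (RingEquiv.ofBijective _ (H11Proj.ProjSpace.chartMap_bijective n R i)).trans
    (Proj.basicOpenIsoAway Pg (X i) (X_mem n R i) Nat.one_pos).commRingCatIsoToRingEquiv

theorem isDomain_D (i : Fin (n + 1)) : IsDomain Γ(Proj Pg, D n R i) :=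
  MulEquiv.isDomain (MvPolynomial {j : Fin (n + 1) // j ≠ i} R) (chartEquiv n R i).symm.toMulEquiv

theorem exists_gen_D [UniqueFactorizationMonoid R] {L : (Proj Pg).Modules} (hL : PicF.IsInvertible L)
    (i : Fin (n + 1)) : ∃ e : Γ(L, D n R i), IsGen L e := by
  haveI := isDomain_D n R i
  haveI : UniqueFactorizationMonoid Γ(Proj Pg, D n R i) :=
    (chartEquiv n R i).toMulEquiv.uniqueFactorizationMonoid inferInstance
  exact exists_isGen_of_gcd hL (isAffineOpen_D n R i)

/-- Value in the function field. -/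
def ev {U : (Proj Pg).Opens} (hU : η n R ∈ U) : Γ(Proj Pg, U) →+* KK :=
  evF Pg Nat.one_pos (X_mem n R 0) (X_ne_zero 0) hU

/-- AA coordinate in the function field. -/
def x (i : Fin (n + 1)) : KK := algebraMap AA KK (X i)

/-- AA constant in the function field. -/
def c : R →+* KK := (algebraMap AA KK).comp C

theorem x_ne_zero (i : Fin (n + 1)) : x n R i ≠ 0 :=
  (map_ne_zero_iff _ (IsFractionRing.injective AA KK)).2 (X_ne_zero i)

theorem exists_pow_of_mul_eq {a b : AA} {i j : Fin (n + 1)} {N : ℕ} (h : a * b = (X i * X j) ^ N) :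
    ∃ (r : R) (p q : ℕ), IsUnit r ∧ a = C r * X i ^ p * X j ^ q := by
  rw [mul_pow] at h
  obtain ⟨q, q', b₁, c₁, -, h1, ha, -⟩ := mul_eq_mul_prime_pow (MvPolynomial.X_prime (R := R) (i := j)) h
  obtain ⟨p, p', b₂, c₂, -, h2, hb, -⟩ := mul_eq_mul_prime_pow (MvPolynomial.X_prime (R := R) (i := i))
    (h1.symm.trans (one_mul _).symm)
  obtain ⟨r, hr, rfl⟩ := MvPolynomial.isUnit_iff_eq_C_of_isReduced.1 (IsUnit.of_mul_eq_one _ h2.symm)
  exact ⟨r, p, q, hr, by rw [ha, hb]⟩

/-- Units on the intersection of two standard opens. -/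
theorem exists_unit_eq (i j : Fin (n + 1)) (u : Γ(Proj Pg, D n R i ⊓ D n R j)) (hu : IsUnit u) :
    ∃ (r : R) (m : ℤ), IsUnit r ∧ ev n R (η_mem_inf n R i j) u = c n R r * (x n R i / x n R j) ^ m := by
  have key : ∀ (W : (Proj Pg).Opens), W = Proj.basicOpen Pg (X i * X j) → ∀ (hW : η n R ∈ W) (u : Γ(Proj Pg, W)),
      IsUnit u → ∃ (r : R) (m : ℤ), IsUnit r ∧ ev n R hW u = c n R r * (x n R i / x n R j) ^ m := by
    rintro _ rfl hW u ⟨u, rfl⟩
    have h2 : (X i * X j : AA) ∈ Pg 2 := SetLike.mul_mem_graded (X_mem n R i) (X_mem n R j)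
    obtain ⟨k, a, ha, hae⟩ := exists_evF_eq Pg Nat.one_pos (X_mem n R 0) (X_ne_zero 0) two_pos h2 hW u.1
    obtain ⟨l, b, hb, hbe⟩ := exists_evF_eq Pg Nat.one_pos (X_mem n R 0) (X_ne_zero 0) two_pos h2 hW u.inv
    have h1 := map_mul (ev n R hW) u.1 u.inv
    rw [u.val_inv, map_one] at h1
    have hne : algebraMap AA KK (X i * X j) ≠ 0 := by
      rw [map_mul]; exact mul_ne_zero (x_ne_zero n R i) (x_ne_zero n R j)
    have hab : a * b = (X i * X j) ^ (k + l) := by
      apply IsFractionRing.injective AA KK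
      have h2 : (1 : KK) = algebraMap AA KK a / algebraMap AA KK (X i * X j) ^ k *
          (algebraMap AA KK b / algebraMap AA KK (X i * X j) ^ l) := h1.trans (congrArg₂ (· * ·) hae hbe)
      rw [div_mul_div_comm, eq_div_iff (mul_ne_zero (pow_ne_zero _ hne) (pow_ne_zero _ hne)), one_mul] at h2
      rw [map_mul, map_pow, pow_add]
      exact h2.symm
    obtain ⟨r, p, q, hr, rfl⟩ := exists_pow_of_mul_eq n R hab
    have hdeg : p + q = k * 2 := by
      have h3 := ((mem_homogeneousSubmodule _ _).1 ha).inj_right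
        (((isHomogeneous_X R i).pow p).C_mul r |>.mul ((isHomogeneous_X R j).pow q))
        (mul_ne_zero (mul_ne_zero (C_ne_zero.2 hr.ne_zero) (pow_ne_zero _ (X_ne_zero i)))
          (pow_ne_zero _ (X_ne_zero j)))
      simpa using h3.symm
    refine ⟨r, (p : ℤ) - k, hr, hae.trans ?_⟩
    have hq : (q : ℤ) = k - ((p : ℤ) - k) := by omega
    have hi := x_ne_zero n R i
    have hj := x_ne_zero n R j
    simp only [map_mul, map_pow]
    change c n R r * x n R i ^ p * x n R j ^ q / (x n R i * x n R j) ^ k = _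
    rw [← zpow_natCast (x n R i) p, ← zpow_natCast (x n R j) q, hq, ← zpow_natCast (x n R i * x n R j) k,
      mul_zpow, div_zpow, zpow_sub₀ hj, zpow_sub₀ hi]
    field_simp
  exact key _ (Proj.basicOpen_mul Pg (X i) (X j)).symm _ u hu

theorem monomial_rel {i j : Fin (n + 1)} (hij : i ≠ j) {k : Fin (n + 1)} (hik : i ≠ k) (hjk : j ≠ k) {r r' : R}
    (hr : r ≠ 0) {a b m : ℤ}
    (h : c n R r * ((x n R i / x n R j) ^ a * (x n R j / x n R k) ^ b) = c n R r' * (x n R i / x n R k) ^ m) :
    a = m ∧ b = m := by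
  let p := (a - m).toNat
  let q := (m - a).toNat
  obtain ⟨β₁, β₂, hβ⟩ : ∃ β₁ β₂ : ℕ, (β₁ : ℤ) - β₂ = b - a := ⟨_, _, Int.toNat_sub_toNat_neg _⟩
  obtain ⟨γ₁, γ₂, hγ⟩ : ∃ γ₁ γ₂ : ℕ, (γ₁ : ℤ) - γ₂ = m - b := ⟨_, _, Int.toNat_sub_toNat_neg _⟩
  have hpq : (p : ℤ) - q = a - m := by omega
  have hi := x_ne_zero n R i
  have hj := x_ne_zero n R j
  have hk := x_ne_zero n R k
  have h1 : c n R r * (x n R i ^ p * x n R j ^ β₁ * x n R k ^ γ₁) =
      c n R r' * (x n R i ^ q * x n R j ^ β₂ * x n R k ^ γ₂) := by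
    simp only [← zpow_natCast]
    rw [show (p : ℤ) = q + (a - m) by omega, show (β₁ : ℤ) = β₂ + (b - a) by omega,
      show (γ₁ : ℤ) = γ₂ + (m - b) by omega, zpow_add₀ hi, zpow_add₀ hj, zpow_add₀ hk, zpow_sub₀ hi, zpow_sub₀ hj,
      zpow_sub₀ hk]
    simp only [div_zpow] at h
    field_simp at h ⊢
    linear_combination h
  simp only [c, x, RingHom.comp_apply, ← map_pow, ← map_mul, (IsFractionRing.injective AA KK).eq_iff] at h1
  simp only [X_pow_eq_monomial, monomial_mul, C_mul_monomial, mul_one] at h1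
  rcases (monomial_eq_monomial_iff _ _ _ _).1 h1 with ⟨h2, -⟩ | ⟨h2, -⟩
  · have h3 := Finsupp.ext_iff.1 h2 i
    have h4 := Finsupp.ext_iff.1 h2 k
    simp [hij.symm, hik.symm, hik, hjk] at h3 h4
    omega
  · exact absurd h2 hr

/-- The constant function on a standard open. -/
def cst (i : Fin (n + 1)) : R →+* Γ(Proj Pg, D n R i) :=
  ((chartEquiv n R i).toRingHom).comp C

theorem ev_cst (i : Fin (n + 1)) (r : R) : ev n R (η_mem_D n R i) (cst n R i r) = c n R r := by
  have h : (C r : AA) ∈ Pg (0 • 1) := by rw [zero_smul]; exact isHomogeneous_C _ r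
  have h1 : H11Proj.ProjSpace.chartMap n R i (C r) =
      HomogeneousLocalization.Away.mk Pg (X_mem n R i) 0 (C r) h := by
    rw [H11Proj.ProjSpace.chartMap, eval₂Hom_C]
    apply HomogeneousLocalization.val_injective
    rw [HomogeneousLocalization.Away.val_mk]
    exact congrArg₂ Localization.mk rfl (Subtype.ext (pow_zero _).symm)
  change fgen Pg (η n R) (fval Pg (Proj.awayToSection Pg (X i) (H11Proj.ProjSpace.chartMap n R i (C r))) ⟨_, _⟩) = _
  rw [h1, fval_awayToSection]
  refine (fgen_mk Pg _ (C r) _).trans ?_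
  simp [c]

/-- Invertible modules on projective space over a factorial domain are twists of the structure sheaf. -/
theorem exists_iso_twist [UniqueFactorizationMonoid R] {L : (Proj Pg).Modules} (hL : PicF.IsInvertible L) :
    ∃ d : ℤ, Nonempty (L ≅ GrTwist.twist Pg d) := by
  choose e he using exists_gen_D n R hL
  have hU : ∀ i j, η n R ∈ D n R i ⊓ D n R j := η_mem_inf n R
  choose w hw using fun i j => exists_coeff ((he j).res (inf_le_right : D n R i ⊓ D n R j ≤ D n R j))
    (L.presheaf.map (homOfLE (inf_le_left : D n R i ⊓ D n R j ≤ D n R i)).op (e i))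
  have hrel : ∀ i j k, ev n R (hU i k) (w i k) = ev n R (hU i j) (w i j) * ev n R (hU j k) (w j k) := by
    intro i j k
    let W := D n R i ⊓ D n R j ⊓ D n R k
    have hW : η n R ∈ W := ⟨hU i j, η_mem_D n R k⟩
    have a₁ : W ≤ D n R i ⊓ D n R k := inf_le_inf_right _ inf_le_left
    have a₂ : W ≤ D n R i ⊓ D n R j := inf_le_left
    have a₃ : W ≤ D n R j ⊓ D n R k := inf_le_inf_right _ inf_le_right
    have h₁ := congrArg (L.presheaf.map (homOfLE a₁).op) (hw i k)
    have h₂ := congrArg (L.presheaf.map (homOfLE a₂).op) (hw i j)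
    have h₃ := congrArg (L.presheaf.map (homOfLE a₃).op) (hw j k)
    simp only [Scheme.Modules.map_smul, H10Coh.mres_mres] at h₁ h₂ h₃
    rw [h₃, smul_smul, h₁] at h₂
    have h₄ := ((he k).bijective (inf_le_right : W ≤ D n R k)).1 h₂
    have h₅ := congrArg (ev n R hW) h₄
    rw [map_mul] at h₅
    exact h₅
  have hone : ∀ i, ev n R (hU i i) (w i i) = 1 := fun i => by
    have h1 : w i i = 1 := ((he i).bijective (inf_le_right : D n R i ⊓ D n R i ≤ D n R i)).1 (by
      beta_reduce; rw [one_smul, ← hw i i])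
    rw [h1, map_one]
  have hunit : ∀ i j, IsUnit (w i j) := fun i j => by
    refine IsUnit.of_mul_eq_one ((Proj Pg).presheaf.map
      (homOfLE (show D n R i ⊓ D n R j ≤ D n R j ⊓ D n R i from le_of_eq (inf_comm _ _))).op (w j i)) ?_
    apply evF_injective Pg Nat.one_pos (X_mem n R 0) (X_ne_zero 0) (hU i j)
    rw [map_mul, map_one]
    exact (hrel i j i).symm.trans (hone i)
  choose ρ μ hρ hev using fun i j => exists_unit_eq n R i j (w i j) (hunit i j)
  obtain ⟨d, hd⟩ : ∃ d : ℤ, ∀ i, i ≠ 0 → μ i 0 = d := by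
    by_cases h : ∃ i : Fin (n + 1), i ≠ 0
    · obtain ⟨i₀, hi₀⟩ := h
      refine ⟨μ i₀ 0, fun i hi => ?_⟩
      by_cases hii : i = i₀
      · rw [hii]
      have h1 := hrel i i₀ 0
      have h2 := hrel i₀ i 0
      rw [hev, hev, hev, mul_mul_mul_comm, ← map_mul] at h1 h2
      exact (monomial_rel n R hii hi hi₀ ((hρ _ _).mul (hρ _ _)).ne_zero h1.symm).2.symm
    · exact ⟨0, fun i hi => absurd ⟨i, hi⟩ h⟩
  have hev0 : ∀ i, ∃ s : Rˣ, ev n R (hU i 0) (w i 0) = c n R s * (x n R i / x n R 0) ^ d := fun i => by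
    by_cases hi : i = 0
    · subst hi
      exact ⟨1, by rw [hone, Units.val_one, map_one, div_self (x_ne_zero n R 0), one_zpow, one_mul]⟩
    · exact ⟨(hρ i 0).unit, by rw [hev, hd i hi]; rfl⟩
  choose s hs using hev0
  refine ⟨d, ?_⟩
  obtain ⟨p, q, hpq⟩ : ∃ p q : ℕ, (p : ℤ) - q = d := ⟨_, _, Int.toNat_sub_toNat_neg d⟩
  let g : ∀ i, Γ(GrTwist.twist Pg d, D n R i) := fun i =>
    secOf Pg Pg (SetLike.pow_mem_graded p (X_mem n R i)) (SetLike.pow_mem_graded q (X_mem n R i))
      (V := D n R i) (fun y hy => pow_notMem Pg hy q) (by simp; omega)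
  have hg : ∀ i, IsGen (GrTwist.twist Pg d) (g i) := fun i => isGen_of_bijective fun V hV =>
    bijective_smul_gen Pg (SetLike.pow_mem_graded p (X_mem n R i)) (SetLike.pow_mem_graded q (X_mem n R i))
      (fun y hy => pow_notMem Pg (hV hy) p) (fun y hy => pow_notMem Pg (hV hy) q) (by simp; omega) _
      fun y => rfl
  obtain ⟨φ, -⟩ := exists_iso_of_gen (D n R) (iSup_D n R) (fun i => cst n R i (s i)⁻¹.1 • e i)
    (fun i y hy => (bijective_smul_iff (he i) _ hy).2 (by
      rw [(Proj Pg).basicOpen_of_isUnit ((s i)⁻¹.isUnit.map (cst n R i))]; exact hy)) g hg fun i j v hv => by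
      rw [Scheme.Modules.map_smul, Scheme.Modules.map_smul, hw i j, smul_smul, smul_smul] at hv
      have h1 := congrArg (ev n R (hU i j)) (((he j).bijective inf_le_right).1 hv)
      rw [map_mul, map_mul] at h1
      have hij : ev n R (hU i j) (w i j) * c n R (s j) = c n R (s i) * (x n R i / x n R j) ^ d := by
        have h2 := hrel i j 0
        rw [hs, hs] at h2
        have hi := x_ne_zero n R i
        have hj := x_ne_zero n R j
        have h0 := x_ne_zero n R 0
        simp only [div_zpow] at h2 ⊢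
        field_simp at h2 ⊢
        linear_combination -h2
      change ev n R (η_mem_D n R i) (cst n R i (s i)⁻¹.1) * _ = _ * ev n R (η_mem_D n R j) (cst n R j (s j)⁻¹.1) at h1
      rw [ev_cst, ev_cst] at h1
      have hci : c n R (s i) * c n R (s i)⁻¹.1 = 1 := by rw [← map_mul, Units.mul_inv, map_one]
      have hcj : c n R (s j) * c n R (s j)⁻¹.1 = 1 := by rw [← map_mul, Units.mul_inv, map_one]
      have hv' : ev n R (hU i j) v = (x n R i / x n R j) ^ d := by
        linear_combination (-c n R (s j)) * h1 + (c n R (s i)⁻¹.1) * hij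
          + (x n R i / x n R j) ^ d * hci - ev n R (hU i j) v * hcj
      refine sval_ext Pg Pg fun y => fgen_injective Pg y.1 ?_
      have hi := x_ne_zero n R i
      have hj := x_ne_zero n R j
      have hfy : fgen Pg y.1 (fval Pg v y) = (x n R i / x n R j) ^ d :=
        (fgen_fval Pg Nat.one_pos (X_mem n R 0) (X_ne_zero 0) (hU i j) v y).trans hv'
      change fgen Pg y.1 (Localization.mk (X i ^ p : AA) ⟨X i ^ q, _⟩) =
        fgen Pg y.1 (fval Pg v y * Localization.mk (X j ^ p : AA) ⟨X j ^ q, _⟩)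
      rw [map_mul, hfy, fgen_mk, fgen_mk, map_pow, map_pow, map_pow, map_pow]
      change x n R i ^ p / x n R i ^ q = _ * (x n R j ^ p / x n R j ^ q)
      rw [← hpq, zpow_sub₀ (div_ne_zero hi hj), zpow_natCast, zpow_natCast, div_pow, div_pow]
      field_simp
  exact ⟨φ⟩

end Groth.Agent.LeadPic.Pn
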