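import Groth.Agent.H11Ample.Basic
import Groth.Agent.H11Sym.InvertibleInverse
import Groth.Agent.H10Coh.FinType
import Groth.Agent.H10Coh.TensorBasics
import Groth.Agent.H25Theta.Basic
import Groth.Agent.H23Para.Restrict
import Groth.Agent.H8Props.FinLocFree.Sheaf
import Mathlib.RingTheory.PicardGroup
import Mathlib.RingTheory.UniqueFactorizationDomain.ClassGroup

/-!
# Invertible modules on affine opens with GCD domains of functions are trivial there
-/

set_option autoImplicit false
set_option linter.style.haveILetI false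

noncomputable section

universe u

open CategoryTheory CategoryTheory.Limits AlgebraicGeometry Opposite TopologicalSpace
open scoped TensorProduct

namespace Groth.Agent.LeadPic

open Groth.Agent.H11Tilde Groth.Agent.H11Ample

/-- A module with functionals summing to `1` whose values commute is invertible. -/
theorem invertible_of_pairing {R N : Type u} [CommRing R] [AddCommGroup N] [Module R N] {ι : Type*} [Fintype ι]
    (θ : ι → Module.Dual R N) (y : ι → N) (hy : ∑ q, θ q (y q) = 1)
    (hc : ∀ q (x z : N), θ q x • z = θ q z • x) : Module.Invertible R N := ⟨by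
  constructor
  · rw [injective_iff_map_eq_zero]
    intro t ht
    obtain ⟨T, rfl⟩ := TensorProduct.exists_finset t
    rw [map_sum] at ht
    simp only [contractLeft_apply] at ht
    calc ∑ p ∈ T, p.1 ⊗ₜ[R] p.2 = ∑ p ∈ T, p.1 ⊗ₜ[R] ((∑ q, θ q (y q)) • p.2) := by simp [hy]
      _ = ∑ q, (∑ p ∈ T, θ q p.2 • p.1) ⊗ₜ[R] y q := by
        simp only [Finset.sum_smul, TensorProduct.tmul_sum, fun q x => hc q (y q) x, TensorProduct.tmul_smul,
          TensorProduct.sum_tmul, TensorProduct.smul_tmul']
        exact Finset.sum_comm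
      _ = 0 := by
        refine Finset.sum_eq_zero fun q _ => ?_
        have h0 : ∑ p ∈ T, θ q p.2 • p.1 = 0 := LinearMap.ext fun z => by
          simp only [LinearMap.sum_apply, LinearMap.smul_apply, LinearMap.zero_apply, ← map_smul]
          simp only [fun p : Module.Dual R N × N => hc q p.2 z, map_smul, ← Finset.smul_sum, ht, smul_zero]
        rw [h0, TensorProduct.zero_tmul]
  · intro c
    refine ⟨c • ∑ q, θ q ⊗ₜ y q, ?_⟩
    rw [map_smul, map_sum]
    simp [hy]⟩

variable {X : Scheme.{u}}

/-- A section generating near a point, defined on the whole affine open. -/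
theorem exists_section_gen_at {M : X.Modules} (hM : PicF.IsInvertible M) {V : X.Opens} (hV : IsAffineOpen V) {y : X}
    (hy : y ∈ V) : ∃ s : Γ(M, V), Function.Bijective fun r : X.presheaf.stalk y => r • M.presheaf.germ V y hy s := by
  haveI : M.IsQuasicoherent :=
    H8Props.FinLocFree.isQCoh_of_isFinLocFree M (H23Para.isFinLocFree_of_isInvertible hM)
  obtain ⟨W, e, hyW, he⟩ := H11Ample.exists_gen hM y
  obtain ⟨b, hb, hyb⟩ := hV.exists_basicOpen_le (V := W) ⟨y, hyW⟩ hy
  obtain ⟨n, s, hs⟩ := H10Coh.exists_pow_smul_eq_res M hV b (M.presheaf.map (homOfLE hb).op e)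
  refine ⟨s, ?_⟩
  have hu : IsUnit (X.presheaf.map (homOfLE (X.basicOpen_le b)).op (b ^ n)) := by
    rw [map_pow]
    exact (RingedSpace.isUnit_res_basicOpen X.toLocallyRingedSpace.toRingedSpace b).pow n
  have h := isGen_res he hb hu y hyb
  rw [← hs, TopCat.Presheaf.germ_res_apply] at h
  exact h

theorem bijective_of_smul {L : X.Modules} {V : X.Opens} {y : X} (hy : y ∈ V) {r : Γ(X, V)} {e : Γ(L, V)}
    (h : Function.Bijective fun a : X.presheaf.stalk y => a • L.presheaf.germ V y hy (r • e)) :
    Function.Bijective fun a : X.presheaf.stalk y => a • L.presheaf.germ V y hy e := by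
  rw [H06Mod.germ_smul] at h
  refine ⟨fun a b hab => h.1 ?_, fun m => ?_⟩
  · simp only [smul_smul, mul_comm _ (X.presheaf.germ V y hy r)]
    rw [mul_smul, mul_smul]
    exact congrArg (X.presheaf.germ V y hy r • ·) hab
  · obtain ⟨a, ha⟩ := h.2 m
    exact ⟨a * X.presheaf.germ V y hy r, by rw [← ha]; exact mul_smul _ _ _⟩

/-- On an affine open with a GCD domain of functions an invertible module has a generator. -/
theorem exists_isGen_of_gcd {L : X.Modules} (hL : PicF.IsInvertible L) {V : X.Opens} (hV : IsAffineOpen V)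
    [IsDomain Γ(X, V)] [IsGCDMonoid Γ(X, V)] : ∃ e : Γ(L, V), IsGen L e := by
  obtain ⟨M, hM, ⟨j⟩⟩ := H11Sym.exists_inverse hL
  let φ : CohB1.tensorMod L M ≅ Coh.structureModule X := H10Coh.Tw.commIso L M ≪≫ j
  let P : Γ(L, V) → Γ(M, V) → Γ(X, V) := fun x z => φ.hom.app V (tm x z)
  choose s hs using fun y : V => exists_section_gen_at hL hV y.2
  choose s' hs' using fun y : V => exists_section_gen_at hM hV y.2
  -- the pairing takes unit values near every point
  have hsmul : ∀ (W : X.Opens) (r : Γ(X, W)) (t : Γ(CohB1.tensorMod L M, W)),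
      (show Γ(X, W) from φ.hom.app W (r • t)) = r * (show Γ(X, W) from φ.hom.app W t) := fun W r t =>
    φ.hom.app_smul r t
  have hspan : Ideal.span (Set.range fun y : V => P (s y) (s' y)) = ⊤ := by
    refine hV.self_le_iSup_basicOpen_iff.1 fun y hy => ?_
    refine Opens.mem_iSup.2 ⟨⟨_, ⟨⟨y, hy⟩, rfl⟩⟩, ?_⟩
    obtain ⟨U, e, hyU, he⟩ := H11Ample.exists_gen hL y
    obtain ⟨U', e', hyU', he'⟩ := H11Ample.exists_gen hM y
    let W : X.Opens := V ⊓ (U ⊓ U')
    have heW := he.res (inf_le_right.trans inf_le_left : W ≤ U)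
    have heW' := he'.res (inf_le_right.trans inf_le_right : W ≤ U')
    have hyW : y ∈ W := ⟨hy, hyU, hyU'⟩
    obtain ⟨p, hp⟩ := exists_coeff heW (L.presheaf.map (homOfLE (inf_le_left : W ≤ V)).op (s ⟨y, hy⟩))
    obtain ⟨q, hq⟩ := exists_coeff heW' (M.presheaf.map (homOfLE (inf_le_left : W ≤ V)).op (s' ⟨y, hy⟩))
    have hpu : y ∈ X.basicOpen p := (bijective_smul_iff heW p hyW).1 (by
      rw [← hp, TopCat.Presheaf.germ_res_apply]; exact hs ⟨y, hy⟩)
    have hqu : y ∈ X.basicOpen q := (bijective_smul_iff heW' q hyW).1 (by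
      rw [← hq, TopCat.Presheaf.germ_res_apply]; exact hs' ⟨y, hy⟩)
    let c : Γ(X, W) := φ.hom.app W (tm (L.presheaf.map (homOfLE (inf_le_right.trans inf_le_left : W ≤ U)).op e)
      (M.presheaf.map (homOfLE (inf_le_right.trans inf_le_right : W ≤ U')).op e'))
    have hc : y ∈ X.basicOpen c := by
      have hg := isGen_map_iso φ (isGen_tm heW heW')
      refine (bijective_smul_iff (isGen_one W) c hyW).1 ?_
      rw [show c • H11Ample.one W = c from mul_one c]
      exact hg y hyW
    have hP : X.presheaf.map (homOfLE (inf_le_left : W ≤ V)).op (P (s ⟨y, hy⟩) (s' ⟨y, hy⟩)) = p * (q * c) := by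
      refine (H11Tilde.app_map_apply φ.hom (inf_le_left : W ≤ V) _).symm.trans ?_
      rw [tm_res, hp, hq, tm_smul_left, tm_smul_right]
      exact (hsmul W p _).trans (congrArg (p * ·) (hsmul W q _))
    have : y ∈ X.basicOpen (p * (q * c)) := by
      rw [Scheme.basicOpen_mul, Scheme.basicOpen_mul]
      exact ⟨hpu, hqu, hc⟩
    rw [← hP, Scheme.basicOpen_res] at this
    exact this.2
  have hcomm : ∀ (m : Γ(M, V)) (x z : Γ(L, V)), P x m • z = P z m • x := by
    intro m x z
    choose U e hxU he using H11Ample.exists_gen hL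
    refine TopCat.Sheaf.eq_of_locally_eq' (H10Coh.sheafOf L) (fun y : V => V ⊓ U y.1) V
      (fun y => homOfLE inf_le_left) (fun y hy => Opens.mem_iSup.2 ⟨⟨y, hy⟩, hy, hxU y⟩) _ _ fun y => ?_
    let W : X.Opens := V ⊓ U y.1
    have heW := (he y.1).res (inf_le_right : W ≤ U y.1)
    obtain ⟨p, hp⟩ := exists_coeff heW (L.presheaf.map (homOfLE (inf_le_left : W ≤ V)).op x)
    obtain ⟨q, hq⟩ := exists_coeff heW (L.presheaf.map (homOfLE (inf_le_left : W ≤ V)).op z)
    show L.presheaf.map (homOfLE (inf_le_left : W ≤ V)).op (P x m • z) =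
      L.presheaf.map (homOfLE (inf_le_left : W ≤ V)).op (P z m • x)
    rw [Scheme.Modules.map_smul, Scheme.Modules.map_smul]
    have hPx : ∀ (w : Γ(L, V)) (a : Γ(X, W)),
        L.presheaf.map (homOfLE (inf_le_left : W ≤ V)).op w =
          a • L.presheaf.map (homOfLE (inf_le_right : W ≤ U y.1)).op (e y.1) →
        X.presheaf.map (homOfLE (inf_le_left : W ≤ V)).op (P w m) =
          a * (show Γ(X, W) from φ.hom.app W (tm (L.presheaf.map (homOfLE (inf_le_right : W ≤ U y.1)).op (e y.1))
            (M.presheaf.map (homOfLE (inf_le_left : W ≤ V)).op m))) := fun w a hw => by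
      refine (H11Tilde.app_map_apply φ.hom (inf_le_left : W ≤ V) _).symm.trans ?_
      rw [tm_res, hw, tm_smul_left]
      exact hsmul W a _
    rw [hPx x p hp, hPx z q hq, hp, hq, smul_smul, smul_smul]
    congr 1
    ring
  obtain ⟨f, hf⟩ := Finsupp.mem_ideal_span_range_iff_exists_finsupp.1 ((Ideal.eq_top_iff_one _).1 hspan)
  let θ : f.support → Module.Dual Γ(X, V) Γ(L, V) := fun q =>
    { toFun := fun x => f q.1 * P x (s' q.1)
      map_add' := fun a b => by
        show f q.1 * P (a + b) (s' q.1) = _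
        rw [← mul_add]
        congr 1
        show (show Γ(X, V) from φ.hom.app V (tm (a + b) (s' q.1))) = _
        rw [tm_add_left, map_add]
        rfl
      map_smul' := fun r a => by
        show f q.1 * P (r • a) (s' q.1) = r • (f q.1 * P a (s' q.1))
        rw [smul_eq_mul, mul_left_comm]
        congr 1
        show (show Γ(X, V) from φ.hom.app V (tm (r • a) (s' q.1))) = _
        rw [tm_smul_left]
        exact hsmul V r _ }
  haveI : Module.Invertible Γ(X, V) Γ(L, V) := invertible_of_pairing θ (fun q => s q.1)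
    (by
      rw [← hf, Finsupp.sum]
      exact Finset.sum_coe_sort f.support fun y => f y * P (s y) (s' y))
    fun q x z => by
      show (f q.1 * P x (s' q.1)) • z = (f q.1 * P z (s' q.1)) • x
      rw [mul_smul, mul_smul, hcomm]
  haveI : Module.Free Γ(X, V) Γ(L, V) := inferInstance
  obtain ⟨u⟩ := Module.Invertible.free_iff_linearEquiv.1 ‹Module.Free Γ(X, V) Γ(L, V)›
  refine ⟨u.symm 1, fun y hy => ?_⟩
  have hs0 := hs ⟨y, hy⟩
  have h1 : s ⟨y, hy⟩ = u (s ⟨y, hy⟩) • u.symm 1 := by
    rw [← map_smul, smul_eq_mul, mul_one, LinearEquiv.symm_apply_apply]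
  rw [h1] at hs0
  exact bijective_of_smul hy hs0

end Groth.Agent.LeadPic
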